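import Cfsg.Agent.Lib.PiHom.Basic
import Cfsg.Agent.Lib.Invol.Basic

/-!
# `π`-homogeneous groups, `π` odd: reduction to simple groups

The hypothesis on the Sylow `2`-subgroups is put in the form `DClass`, which passes to subgroups and
quotients.
-/

set_option autoImplicit false
set_option linter.unusedSectionVars false
set_option linter.style.haveILetI false

namespace CfsgLib.Walter.Consumers.Homogeneous

open Subgroup CfsgLib.PiHom

universe u v

/-- Commutative, or with a cyclic subgroup outside which all elements are involutions inverting it. -/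
def DihLike (P : Type u) [Group P] : Prop :=
  (∀ a b : P, a * b = b * a) ∨
    ∃ r : P, ∀ x : P, x ∉ zpowers r → x * x = 1 ∧ x * r * x⁻¹ = r⁻¹

theorem DihLike.of_surjective {P : Type u} {Q : Type v} [Group P] [Group Q] (h : DihLike P) (f : P →* Q)
    (hf : Function.Surjective f) : DihLike Q := by
  rcases h with h | ⟨r, hr⟩
  · refine Or.inl fun a b => ?_
    obtain ⟨x, rfl⟩ := hf a
    obtain ⟨y, rfl⟩ := hf b
    rw [← map_mul, ← map_mul, h]
  · refine Or.inr ⟨f r, fun y hy => ?_⟩
    obtain ⟨x, rfl⟩ := hf y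
    have hx : x ∉ zpowers r := fun h => hy (by
      obtain ⟨i, rfl⟩ := mem_zpowers_iff.1 h
      exact ⟨i, (map_zpow f r i).symm⟩)
    exact ⟨by rw [← map_mul, (hr x hx).1, map_one], by rw [← map_inv, ← map_mul, ← map_mul, (hr x hx).2, map_inv]⟩

theorem DihLike.subgroup {P : Type u} [Group P] (h : DihLike P) (H : Subgroup P) : DihLike H := by
  rcases h with h | ⟨r, hr⟩
  · exact Or.inl fun a b => Subtype.ext (h a b)
  · haveI : IsCyclic ((zpowers r).subgroupOf H) :=
      isCyclic_of_injective ((Subgroup.subtype H).subgroupComap (zpowers r))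
        fun a b e => Subtype.ext (Subtype.ext (congrArg (fun z : zpowers r => (z : P)) e))
    obtain ⟨s, hs⟩ := IsCyclic.exists_zpow_surjective (G := (zpowers r).subgroupOf H)
    refine Or.inr ⟨(s : H), fun x hx => ?_⟩
    have hx' : (x : P) ∉ zpowers r := fun hm => hx (by
      obtain ⟨i, hi⟩ := hs ⟨x, hm⟩
      exact ⟨i, congrArg Subtype.val hi⟩)
    refine ⟨Subtype.ext (hr _ hx').1, Subtype.ext ?_⟩
    obtain ⟨i, hi⟩ := mem_zpowers_iff.1 (show ((s : H) : P) ∈ zpowers r from s.2)
    show (x : P) * ((s : H) : P) * (x : P)⁻¹ = ((s : H) : P)⁻¹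
    rw [← hi, ← conj_zpow, (hr _ hx').2, inv_zpow]

/-- Every `2`-subgroup is commutative or dihedral. -/
def DClass (G : Type u) [Group G] : Prop := ∀ P : Subgroup G, IsPGroup 2 P → DihLike P

variable {π : Set ℕ} {G : Type u} [Group G]

theorem DClass.subgroup (h : DClass G) (U : Subgroup G) : DClass U := fun P hP =>
  (h (P.map U.subtype) (hP.map _)).of_surjective
    (P.equivMapOfInjective U.subtype U.subtype_injective).symm.toMonoidHom (MulEquiv.surjective _)

theorem DClass.quotient [Finite G] (h : DClass G) (N : Subgroup G) [N.Normal] : DClass (G ⧸ N) := by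
  haveI : Fact (Nat.Prime 2) := ⟨Nat.prime_two⟩
  intro Q hQ
  obtain ⟨T, hT⟩ := hQ.exists_le_sylow
  obtain ⟨S, rfl⟩ := Sylow.mapSurjective_surjective (QuotientGroup.mk'_surjective N) 2 T
  have h1 : DihLike ((S : Subgroup G).map (QuotientGroup.mk' N)) :=
    (h S S.2).of_surjective ((QuotientGroup.mk' N).subgroupMap S) ((QuotientGroup.mk' N).subgroupMap_surjective _)
  exact (h1.subgroup (Q.subgroupOf _)).of_surjective (subgroupOfEquivOfLe hT).toMonoidHom (MulEquiv.surjective _)

theorem dClass_of_sylow [Finite G] (h : ∀ S : Sylow 2 G, IsMulCommutative S ∨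
    ∃ n : ℕ, Nonempty ((S : Subgroup G) ≃* DihedralGroup n)) : DClass G := by
  haveI : Fact (Nat.Prime 2) := ⟨Nat.prime_two⟩
  intro P hP
  obtain ⟨S, hS⟩ := hP.exists_le_sylow
  have h1 : DihLike (S : Subgroup G) := by
    rcases h S with h' | ⟨n, ⟨e⟩⟩
    · exact Or.inl fun a b => isMulCommutative_iff.1 h' a b
    · refine (show DihLike (DihedralGroup n) from Or.inr ⟨DihedralGroup.r 1, ?_⟩).of_surjective
        e.symm.toMonoidHom e.symm.surjective
      rintro (i | i) hx
      · refine absurd ⟨(i.cast : ℤ), ?_⟩ hx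
        show (DihedralGroup.r (1 : ZMod n)) ^ (i.cast : ℤ) = DihedralGroup.r i
        rw [DihedralGroup.r_one_zpow]; simp
      · exact ⟨DihedralGroup.sr_mul_self i, by simp⟩
  exact (h1.subgroup (P.subgroupOf _)).of_surjective (subgroupOfEquivOfLe hS).toMonoidHom (MulEquiv.surjective _)

/-- A nonabelian group of this kind is dihedral. -/
theorem DihLike.dihedral {P : Type u} [Group P] [Finite P] (h : DihLike P) (hP : ¬ ∀ a b : P, a * b = b * a) :
    ∃ n : ℕ, 2 ≤ n ∧ Nonempty (P ≃* DihedralGroup n) := by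
  obtain ⟨r, hr⟩ := h.resolve_left hP
  obtain ⟨s, hs⟩ : ∃ s, s ∉ zpowers r := by
    by_contra! hall
    refine hP fun a b => ?_
    obtain ⟨i, rfl⟩ := mem_zpowers_iff.1 (hall a)
    obtain ⟨j, rfl⟩ := mem_zpowers_iff.1 (hall b)
    exact ((Commute.refl r).zpow_zpow i j).eq
  have hsr : s * r ∉ zpowers r := fun h => hs (by simpa using mul_mem h (inv_mem (mem_zpowers r)))
  have hne1 : s ≠ 1 := fun e => hs (e ▸ one_mem _)
  have hne2 : s * r ≠ 1 := fun e => hsr (e ▸ one_mem _)
  have hx : orderOf s = 2 := Invol.invol_iff.2 ⟨(hr s hs).1, hne1⟩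
  have hy : orderOf (s * r) = 2 := Invol.invol_iff.2 ⟨(hr _ hsr).1, hne2⟩
  have hxy : s * (s * r) = r := by rw [← mul_assoc, (hr s hs).1, one_mul]
  have htop : closure ({s, s * r} : Set P) = ⊤ := by
    refine eq_top_iff.2 fun x _ => ?_
    have hrm : r ∈ closure ({s, s * r} : Set P) := by
      have := mul_mem (subset_closure (show s ∈ ({s, s * r} : Set P) by simp))
        (subset_closure (show s * r ∈ ({s, s * r} : Set P) by simp))
      rwa [hxy] at this
    by_cases hxr : x ∈ zpowers r
    · exact (zpowers_le.2 hrm) hxr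
    · by_cases hsx : s * x ∈ zpowers r
      · have := mul_mem (subset_closure (show s ∈ ({s, s * r} : Set P) by simp)) ((zpowers_le.2 hrm) hsx)
        rwa [← mul_assoc, (hr s hs).1, one_mul] at this
      · exfalso
        have h1 : r = r⁻¹ := by
          conv_lhs => rw [show r = s * (x * r * x⁻¹) * s⁻¹ by
            rw [(hr x hxr).2, ← conj_inv, (hr s hs).2, inv_inv]]
          rw [← (hr _ hsx).2]; group
        refine hP fun a b => ?_
        have hsq : ∀ y : P, y * y = 1 := fun y => by
          by_cases hy : y ∈ zpowers r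
          · obtain ⟨i, rfl⟩ := mem_zpowers_iff.1 hy
            rw [← ((Commute.refl r).mul_zpow i), show r * r = 1 from mul_eq_one_iff_eq_inv.2 h1, one_zpow]
          · exact (hr y hy).1
        have hinv : ∀ y : P, y⁻¹ = y := fun y => inv_eq_of_mul_eq_one_right (hsq y)
        calc a * b = (a * b)⁻¹ := (hinv _).symm
          _ = b * a := by rw [mul_inv_rev, hinv, hinv]
  refine ⟨orderOf r, ?_, ?_⟩
  · by_contra hlt
    have h1 : orderOf r = 1 := le_antisymm (by omega) (orderOf_pos r)
    rw [orderOf_eq_one_iff] at h1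
    refine hP fun a b => ?_
    have hsq : ∀ y : P, y * y = 1 := fun y => by
      by_cases hy : y ∈ zpowers r
      · rw [h1, zpowers_one_eq_bot, mem_bot] at hy; rw [hy, one_mul]
      · exact (hr y hy).1
    have hinv : ∀ y : P, y⁻¹ = y := fun y => inv_eq_of_mul_eq_one_right (hsq y)
    calc a * b = (a * b)⁻¹ := (hinv _).symm
      _ = b * a := by rw [mul_inv_rev, hinv, hinv]
  · have e := (Subgroup.topEquiv.symm.trans (MulEquiv.subgroupCongr htop.symm)).trans (Invol.dihedralEquiv hx hy)
    rw [hxy] at e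
    exact ⟨e⟩

variable [Finite G]

theorem hom_quotient_coNum (hodd : ∀ p ∈ π, p ≠ 2) (h : Hom π G) {N : Subgroup G} [N.Normal]
    (hN : CoNum π (Nat.card N)) : Hom π (G ⧸ N) := by
  intro H hH q hq hqo
  obtain ⟨g, rfl⟩ := QuotientGroup.mk'_surjective N q
  obtain ⟨L, hLM, hc, hm, hsup⟩ := exists_lift hN H hH
  have hsolv : Group.IsSolvable L := CfsgLib.FT.isSolvable_of_odd _ (Nat.not_even_iff_odd.1 fun he =>
    hodd 2 (hH 2 Nat.prime_two (hc ▸ even_iff_two_dvd.1 he)) rfl)
  have hconj : CfsgLib.Coprime.conjBy g L ≤ L ⊔ N := by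
    rw [hsup]
    intro y hy
    rw [CfsgLib.Coprime.mem_conjBy] at hy
    have := (mem_normalizer_iff.1 hq _).1 (hLM hy)
    show QuotientGroup.mk' N y ∈ H
    simpa [mul_assoc] using this
  obtain ⟨k, hk, e⟩ := CfsgLib.Coprime.sz_conj_in (A := L) (B := CfsgLib.Coprime.conjBy g L) (N := N)
    (le_top.trans (normalizer_eq_top N).ge) (coprime_of (hc.symm ▸ hH) hN).symm hconj
    (CfsgLib.Coprime.card_conjBy g L) (Or.inl hsolv)
  rw [CfsgLib.Coprime.conjBy_conjBy] at e
  have hkg : QuotientGroup.mk' N (k * g) = QuotientGroup.mk' N g := by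
    rw [map_mul, QuotientGroup.mk'_apply N k, (QuotientGroup.eq_one_iff k).2 hk, one_mul]
  have hC := h L (hc.symm ▸ hH) (k * g) (mem_normalizer_iff_conj_image_eq.2 (congrArg SetLike.coe e))
    (coNum_of_lift hN (hkg.symm ▸ hqo))
  rw [← hkg]
  refine mem_centralizer_iff.2 fun y hy => ?_
  obtain ⟨l, hl, rfl⟩ := hm.symm ▸ hy
  rw [← map_mul, ← map_mul, mem_centralizer_iff.1 hC l hl]

/-- Induction: it suffices to treat simple groups all of whose proper subgroups are closed. -/
theorem closed_of_simple (hodd : ∀ p ∈ π, p ≠ 2)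
    (step : ∀ (G : Type u) [Group G] [Finite G] [IsSimpleGroup G], ¬ IsMulCommutative G → DClass G →
      Hom π G → (∀ U : Subgroup G, U ≠ ⊤ → Closed π U) → Closed π G) :
    ∀ (G : Type u) [Group G] [Finite G], DClass G → Hom π G → Closed π G := by
  intro G _ _
  induction hn : Nat.card G using Nat.strong_induction_on generalizing G with
  | _ k ih =>
  subst hn
  intro hT hH
  classical
  have hU : ∀ U : Subgroup G, U ≠ ⊤ → Closed π U := fun U hU => by
    refine ih _ (lt_of_le_of_ne (Nat.le_of_dvd Nat.card_pos (card_subgroup_dvd_card U)) fun e => hU ?_) U rfl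
      (hT.subgroup U) (hH.subgroup U)
    exact eq_top_of_card_eq U e
  have hquot : ∀ N : Subgroup G, [N.Normal] → N ≠ ⊥ → Nat.card (G ⧸ N) < Nat.card G := fun N _ hb => by
    rw [← Subgroup.index_eq_card, ← N.card_mul_index]
    exact lt_mul_of_one_lt_left (Nat.pos_of_ne_zero N.index_ne_zero_of_finite)
      ((one_lt_card_iff_ne_bot N).2 hb)
  by_cases hex : ∃ N : Subgroup G, N.Normal ∧ N ≠ ⊥ ∧ N ≠ ⊤
  · obtain ⟨N, hN, hb, ht⟩ := hex
    haveI := hN
    obtain ⟨K, hK⟩ := hU N ht
    by_cases hK1 : K = ⊥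
    · have hNp : PiNum π (Nat.card N) := by
        intro p hp hd
        by_contra hπ
        haveI := Fact.mk hp
        obtain ⟨x, hx⟩ := exists_prime_orderOf_dvd_card' p hd
        have : x ∈ K := (hK x).2 (hx ▸ (pow_one p ▸ coNum_pow hp hπ 1))
        rw [hK1, mem_bot] at this
        rw [this, orderOf_one] at hx
        exact hp.ne_one hx.symm
      have hcent : ∀ x : G, CoNum π (orderOf x) → x ∈ centralizer (N : Set G) := fun x hx =>
        hH N hNp x (normalizer_eq_top N ▸ mem_top x) hx
      by_cases hC : centralizer (N : Set G) = ⊤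
      · refine closed_of_quotient_piNum hNp (fun n hn g => (mem_centralizer_iff.1 (hC ▸ mem_top g) n hn).symm) ?_
        exact ih _ (hquot N hb) _ rfl (hT.quotient N) (hH.quotient_piNum hNp)
      · obtain ⟨L, hL⟩ := hU _ hC
        refine ⟨L.map (centralizer (N : Set G)).subtype, fun x => ⟨?_, fun hx => ?_⟩⟩
        · rintro ⟨y, hy, rfl⟩
          rw [coe_subtype, orderOf_coe]
          exact (hL y).1 hy
        · exact ⟨⟨x, hcent x hx⟩, (hL _).2 (by rwa [orderOf_mk]), rfl⟩
    · set K' := K.map N.subtype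
      haveI hKn : K'.Normal := ⟨by
        rintro _ ⟨y, hy, rfl⟩ g
        refine ⟨⟨g * (y : G) * g⁻¹, hN.conj_mem _ y.2 g⟩, (hK _).2 ?_, rfl⟩
        rw [orderOf_mk, show g * (y : G) * g⁻¹ = MulAut.conj g (y : G) from rfl, MulEquiv.orderOf_eq,
          orderOf_coe]
        exact (hK y).1 hy⟩
      have hKc : CoNum π (Nat.card K') := by
        rw [card_map_of_injective N.subtype_injective]
        exact coNum_card_iff.2 fun x hx => (hK x).1 hx
      have hKb : K' ≠ ⊥ := fun e => hK1 ((map_eq_bot_iff_of_injective _ N.subtype_injective).1 e)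
      exact closed_of_quotient_coNum hKc
        (ih _ (hquot K' hKb) _ rfl (hT.quotient K') (hom_quotient_coNum hodd hH hKc))
  push Not at hex
  by_cases hcomm : IsMulCommutative G
  · exact ⟨{ carrier := {x | CoNum π (orderOf x)}
             one_mem' := by simpa using coNum_one
             mul_mem' := fun {a b} ha hb => ((ha.mul hb).of_dvd
               ((Commute.orderOf_mul_dvd_lcm (hcomm.is_comm.comm a b)).trans (Nat.lcm_dvd_mul _ _)))
             inv_mem' := fun {a} ha => by simpa using ha }, fun x => Iff.rfl⟩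
  · haveI : Nontrivial G := by
      by_contra hne
      rw [not_nontrivial_iff_subsingleton] at hne
      exact hcomm ⟨⟨fun a b => Subsingleton.elim _ _⟩⟩
    haveI : IsSimpleGroup G := ⟨fun N hN => or_iff_not_imp_left.2 (hex N hN)⟩
    exact step G hcomm hT hH hU

end CfsgLib.Walter.Consumers.Homogeneous
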