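import Cfsg.Agent.Lib.Walter.Consumers.Homogeneous.Basic
import Cfsg.Agent.Lib.Walter.Consumers.ReeType
import Cfsg.Agent.Lib.Walter.Consumers.PslReal
import Cfsg.Agent.Lib.Ree.Scalar
import Cfsg.Agent.Lib.Ree.Degree
import Cfsg.Agent.Lib.GW.Setting
import Cfsg.Agent.S0483

/-!
# `π`-homogeneous groups with dihedral or abelian Sylow `2`-subgroups, `π` odd
-/

set_option autoImplicit false
set_option linter.unusedSectionVars false
set_option linter.style.haveILetI false

namespace CfsgLib.Walter.Consumers.Homogeneous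

open Subgroup CfsgLib.PiHom

universe u

variable {π : Set ℕ} {G : Type u} [Group G] [Finite G]

theorem not_inverted (hodd : ∀ p ∈ π, p ≠ 2) (hH : Hom π G) {r : ℕ} (hr : r.Prime) (hrπ : r ∈ π) {x g : G}
    (hx : orderOf x = r) (hg : g * x * g⁻¹ = x⁻¹) : False := by
  have hx1 : x ≠ 1 := fun e => hr.ne_one (by rw [← hx, e, orderOf_one])
  obtain ⟨a, c, hc, he⟩ := Nat.exists_eq_two_pow_mul_odd (orderOf_pos g).ne'
  have hpow : ∀ i : ℕ, Odd i → g ^ i * x * (g ^ i)⁻¹ = x⁻¹ := by
    intro i hi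
    obtain ⟨k, rfl⟩ := hi
    induction k with
    | zero => simpa using hg
    | succ k ih =>
      rw [show 2 * (k + 1) + 1 = 2 * k + 1 + 1 + 1 by ring, pow_succ', pow_succ']
      calc g * (g * g ^ (2 * k + 1)) * x * (g * (g * g ^ (2 * k + 1)))⁻¹
          = g * (g * (g ^ (2 * k + 1) * x * (g ^ (2 * k + 1))⁻¹) * g⁻¹) * g⁻¹ := by group
        _ = x⁻¹ := by rw [ih, ← conj_inv, hg, inv_inv, hg]
  set y := g ^ c with hy
  have hyinv : y * x * y⁻¹ = x⁻¹ := hpow c hc
  have hyN : y ∈ normalizer (zpowers x : Set G) := mem_normalizer_fintype fun z hz => by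
    obtain ⟨i, rfl⟩ := mem_zpowers_iff.1 hz
    rw [← conj_zpow, hyinv]
    exact zpow_mem (inv_mem (mem_zpowers x)) i
  have hyo : CoNum π (orderOf y) := (coNum_pow Nat.prime_two (fun h => hodd 2 h rfl) a).of_dvd
    (orderOf_dvd_of_pow_eq_one (by rw [hy, ← pow_mul, mul_comm, ← he, pow_orderOf_eq_one]))
  have hcz := hH (zpowers x) (by rw [Nat.card_zpowers, hx]; simpa using piNum_pow hr hrπ 1) y hyN hyo
  have hcomm := mem_centralizer_iff.1 hcz x (mem_zpowers x)
  rw [← hcomm, mul_inv_cancel_right] at hyinv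
  have h2 : x ^ 2 = 1 := by rw [sq]; nth_rewrite 2 [hyinv]; rw [mul_inv_cancel]
  have h3 := orderOf_dvd_of_pow_eq_one h2
  rw [hx] at h3
  exact hodd r hrπ ((Nat.prime_dvd_prime_iff_eq hr Nat.prime_two).1 h3)

/-- By the transfer theorem of Burnside some other prime of `π` acts on an abelian Sylow subgroup. -/
theorem exists_acting [IsSimpleGroup G] (hna : ¬ IsMulCommutative G) (hH : Hom π G) {p : ℕ} [Fact p.Prime]
    (hpπ : p ∈ π) (hp : p ∣ Nat.card G) (P : Sylow p G)
    (hc : ∀ a ∈ (P : Subgroup G), ∀ b ∈ (P : Subgroup G), a * b = b * a) :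
    ∃ r : ℕ, r.Prime ∧ r ∈ π ∧ r ≠ p ∧ r ∣ Nat.card G ∧ r ∣ Nat.card (MulAut (P : Subgroup G)) := by
  classical
  set N := normalizer ((P : Subgroup G) : Set G)
  set C := (centralizer ((P : Subgroup G) : Set G)).subgroupOf N
  have hne : C.index ≠ 1 := by
    intro h1
    rw [Subgroup.index_eq_one, subgroupOf_eq_top] at h1
    have hcompl := MonoidHom.ker_transferSylow_isComplement' P h1
    rcases (inferInstance : (MonoidHom.transferSylow P h1).ker.Normal).eq_bot_or_eq_top with h | h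
    · rw [h, isComplement'_bot_left] at hcompl
      exact hna (isMulCommutative_iff.2 fun a b => hc a (hcompl ▸ mem_top a) b (hcompl ▸ mem_top b))
    · rw [h, isComplement'_top_left] at hcompl
      exact P.ne_bot_of_dvd_card hp hcompl
  obtain ⟨r, hr, hrd⟩ := Nat.exists_prime_and_dvd hne
  haveI := Fact.mk hr
  have hPC : (P : Subgroup G).subgroupOf N ≤ C := fun x hx =>
    mem_subgroupOf.2 (mem_centralizer_iff.2 fun y hy => hc y hy x hx)
  have hrp : r ≠ p := by
    intro e
    subst e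
    exact P.not_dvd_index ((hrd.trans (index_dvd_of_le hPC)).trans (relIndex_dvd_index_of_le le_normalizer))
  refine ⟨r, hr, ?_, hrp, hrd.trans ((index_dvd_card C).trans (card_subgroup_dvd_card N)), hrd.trans ?_⟩
  · by_contra hrπ
    obtain ⟨R⟩ : Nonempty (Sylow r N) := inferInstance
    refine R.not_dvd_index (hrd.trans (index_dvd_of_le fun x hx => ?_))
    obtain ⟨k, hk⟩ := R.2 ⟨x, hx⟩
    refine mem_subgroupOf.2 (hH (P : Subgroup G) ?_ x x.2 ((coNum_pow hr hrπ k).of_dvd
      (orderOf_dvd_of_pow_eq_one (congrArg (fun z : R => ((z : N) : G)) hk))))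
    obtain ⟨j, hj⟩ := P.2.exists_card_eq
    exact hj ▸ piNum_pow (Fact.out : p.Prime) hpπ j
  · rw [show C = (P : Subgroup G).normalizerMonoidHom.ker from (normalizerMonoidHom_ker _).symm,
      Subgroup.index_ker]
    exact card_subgroup_dvd_card _

theorem card_mulAut_prime {P : Type u} [Group P] [Finite P] {p : ℕ} (hp : p.Prime) (h : Nat.card P = p) :
    Nat.card (MulAut P) ∣ p - 1 := by
  haveI := Fact.mk hp
  haveI : IsCyclic P := isCyclic_of_prime_card h
  rw [IsCyclic.card_mulAut, h, Nat.totient_prime hp]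

/-- A prime of order one in `|G|` dividing no `r - 1` of the remaining primes is excluded. -/
theorem exists_acting_prime [IsSimpleGroup G] (hna : ¬ IsMulCommutative G) (hH : Hom π G) {p : ℕ} (hp : p.Prime)
    (hpπ : p ∈ π) (hd : p ∣ Nat.card G) (hd2 : ¬ p ^ 2 ∣ Nat.card G) :
    ∃ r : ℕ, r.Prime ∧ r ∈ π ∧ r ∣ Nat.card G ∧ r ∣ p - 1 := by
  haveI := Fact.mk hp
  obtain ⟨P⟩ : Nonempty (Sylow p G) := inferInstance
  obtain ⟨j, hj⟩ := P.2.exists_card_eq
  have hj1 : j = 1 := by
    rcases Nat.lt_trichotomy j 1 with h | h | h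
    · exact absurd (Subgroup.card_eq_one.1 (by rw [hj, show j = 0 by omega, pow_zero])) (P.ne_bot_of_dvd_card hd)
    · exact h
    · exact absurd ((pow_dvd_pow p (show 2 ≤ j by omega)).trans (hj ▸ card_subgroup_dvd_card (P : Subgroup G))) hd2
  rw [hj1, pow_one] at hj
  haveI : IsCyclic (P : Subgroup G) := isCyclic_of_prime_card hj
  obtain ⟨r, hr, hrπ, -, hrG, hrA⟩ := exists_acting hna hH hpπ hd P fun a ha b hb =>
    congrArg Subtype.val (isMulCommutative_iff.1 inferInstance (⟨a, ha⟩ : (P : Subgroup G)) ⟨b, hb⟩)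
  exact ⟨r, hr, hrπ, hrG, hrA.trans (card_mulAut_prime hp hj)⟩

theorem not_dvd_of_alt_seven [IsSimpleGroup G] (hna : ¬ IsMulCommutative G) (hodd : ∀ p ∈ π, p ≠ 2)
    (hH : Hom π G) (e : G ≃* alternatingGroup (Fin 7)) {p : ℕ} (hp : p.Prime) (hpπ : p ∈ π) :
    ¬ p ∣ Nat.card G := by
  intro hd
  have hcard : Nat.card G = 2520 := by
    rw [Nat.card_congr e.toEquiv, nat_card_alternatingGroup]
    simp [Nat.factorial]
  have h3 : 3 ∉ π := by
    intro h
    let x : alternatingGroup (Fin 7) := ⟨Equiv.swap 0 1 * Equiv.swap 1 2, Equiv.Perm.mem_alternatingGroup.2 (by decide)⟩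
    let g : alternatingGroup (Fin 7) := ⟨Equiv.swap 1 2 * Equiv.swap 3 4, Equiv.Perm.mem_alternatingGroup.2 (by decide)⟩
    refine not_inverted hodd hH Nat.prime_three h (x := e.symm x) (g := e.symm g) ?_
      (by rw [← map_inv, ← map_inv, ← map_mul, ← map_mul]; exact congrArg e.symm (by decide))
    rw [MulEquiv.orderOf_eq]
    exact orderOf_eq_prime (by decide) (by decide)
  have key : ∀ q : ℕ, q.Prime → q ∈ π → q ∣ 2520 → q = 5 ∨ q = 7 := by
    intro q hq hqπ hqd
    have := Nat.le_of_dvd (by norm_num) hqd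
    have hq7 : q ≤ 7 := by
      rw [show 2520 = 2 ^ 3 * (3 ^ 2 * (5 * 7)) by norm_num] at hqd
      rcases hq.dvd_mul.1 hqd with h | h
      · exact (Nat.le_of_dvd (by norm_num) (hq.dvd_of_dvd_pow h)).trans (by norm_num)
      rcases hq.dvd_mul.1 h with h | h
      · exact (Nat.le_of_dvd (by norm_num) (hq.dvd_of_dvd_pow h)).trans (by norm_num)
      rcases hq.dvd_mul.1 h with h | h <;> exact (Nat.le_of_dvd (by norm_num) h).trans (by norm_num)
    interval_cases q <;> first | omega | exact absurd hqπ h3 | exact absurd rfl (hodd 2 hqπ) |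
      exact absurd hq (by decide)
  rw [hcard] at hd
  have hp' := key p hp hpπ hd
  obtain ⟨r, hr, hrπ, hrG, hrd⟩ := exists_acting_prime hna hH hp hpπ (hcard ▸ hd) (by
    rw [hcard]; rcases hp' with rfl | rfl <;> norm_num)
  rcases key r hr hrπ (hcard ▸ hrG) with rfl | rfl <;> rcases hp' with rfl | rfl <;> norm_num at hrd

theorem not_dvd_of_psl [IsSimpleGroup G] (hna : ¬ IsMulCommutative G) (hodd : ∀ p ∈ π, p ≠ 2)
    (hH : Hom π G) {F : Type} [Field F] [Fintype F]
    (e : G ≃* Matrix.ProjectiveSpecialLinearGroup (Fin 2) F) {p : ℕ} (hp : p.Prime) (hpπ : p ∈ π) :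
    ¬ p ∣ Nat.card G := by
  intro hd
  obtain ⟨l, hl⟩ := CharP.exists F
  haveI := hl
  have hlp : l.Prime := CharP.char_is_prime F l
  haveI := Fact.mk hlp
  have hreal : ∀ r : ℕ, r.Prime → r ∈ π → r ∣ Nat.card G → r = l := by
    intro r hr hrπ hrd
    by_contra hne
    haveI := Fact.mk hr
    obtain ⟨x, hx⟩ := exists_prime_orderOf_dvd_card' (G := G) r hrd
    obtain ⟨g, hg⟩ := psl_real (p := l) hr hne (u := e x) (by rw [MulEquiv.orderOf_eq]; exact hx)
    exact not_inverted hodd hH hr hrπ hx (g := e.symm g) (e.injective (by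
      rw [map_mul, map_mul, map_inv, map_inv, MulEquiv.apply_symm_apply, hg]))
  obtain rfl : p = l := hreal p hp hpπ hd
  have hU : IsPGroup p (EqualOrder2.rootU : Subgroup (Matrix.ProjectiveSpecialLinearGroup (Fin 2) F)) := by
    intro x
    obtain ⟨t, ht⟩ := EqualOrder2.mem_rootU.1 x.2
    exact ⟨1, Subtype.ext (by rw [pow_one, Subgroup.coe_pow, ← ht]; exact MinNonCA.pi_uT_pow p t)⟩
  have hcomm : ∀ a ∈ (EqualOrder2.rootU : Subgroup (Matrix.ProjectiveSpecialLinearGroup (Fin 2) F)),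
      ∀ b ∈ (EqualOrder2.rootU : Subgroup (Matrix.ProjectiveSpecialLinearGroup (Fin 2) F)), a * b = b * a := by
    intro a ha b hb
    obtain ⟨s, rfl⟩ := EqualOrder2.mem_rootU.1 ha
    obtain ⟨t, rfl⟩ := EqualOrder2.mem_rootU.1 hb
    rw [← map_mul, ← map_mul, MinNonCA.uT_mul, MinNonCA.uT_mul, add_comm]
  let P : Sylow p G := (hU.toSylow (EqualOrder2.not_dvd_index_rootU p)).comapOfInjective e.toMonoidHom
    e.injective (fun y _ => e.surjective y)
  obtain ⟨r, hr, hrπ, hrp, hrG, -⟩ := exists_acting hna hH hpπ hd P fun a ha b hb =>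
    e.injective (by rw [map_mul, map_mul]; exact hcomm _ ha _ hb)
  exact hrp (hreal r hr hrπ hrG)

theorem not_dvd_of_ree (hA : ReeType.ScalarStmt.{u}) [IsSimpleGroup G] (hna : ¬ IsMulCommutative G)
    (hodd : ∀ p ∈ π, p ≠ 2) (hH : Hom π G) (hU : ∀ U : Subgroup G, U ≠ ⊤ → Closed π U)
    (hab : AbTwo G) (hr : ReeForm G) {p : ℕ} (hp : p.Prime) (hpπ : p ∈ π) : ¬ p ∣ Nat.card G := by
  intro hd
  haveI := Fact.mk hp
  have hp2 := hodd p hpπ
  obtain ⟨h8, t, ht, F, iF, iF', hF, ⟨e₀⟩⟩ := id hr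
  obtain ⟨E, hEs, hEn, htE, hE4, F', iF₁, iF₁', -, ⟨eE⟩⟩ :=
    Rank.centralizer_of_reeForm inferInstance hr hab ht
  -- no prime of `π` divides the order of an involution centralizer
  have hnoC : ∀ r : ℕ, r.Prime → r ∈ π → ¬ r ∣ Nat.card (centralizer ({t} : Set G)) := by
    intro r hr' hrπ hrd
    haveI := Fact.mk hr'
    rw [card_internal hE4, Nat.card_zpowers, ht] at hrd
    have hrE : r ∣ Nat.card E := (hr'.dvd_mul.1 hrd).resolve_left fun h =>
      hodd r hrπ ((Nat.prime_dvd_prime_iff_eq hr' Nat.prime_two).1 h)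
    obtain ⟨K, hK⟩ := hU E fun h => htE (h ▸ mem_top t)
    haveI := hEs
    haveI : K.Normal := ⟨fun y hy g => (hK _).2 (by
      rw [show g * y * g⁻¹ = MulAut.conj g y from rfl, MulEquiv.orderOf_eq]; exact (hK y).1 hy)⟩
    rcases (inferInstance : K.Normal).eq_bot_or_eq_top with h | h
    · have heven : 2 ∣ Nat.card E := by
        by_contra h2
        haveI : Group.IsSolvable E := CfsgLib.FT.isSolvable_of_odd E (Nat.not_even_iff_odd.1 fun h => h2
          (even_iff_two_dvd.1 h))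
        exact hEn (isMulCommutative_iff.2 fun a b => IsSimpleGroup.comm_iff_isSolvable.2 inferInstance a b)
      haveI := Fact.mk Nat.prime_two
      obtain ⟨i, hi⟩ := exists_prime_orderOf_dvd_card' (G := E) 2 heven
      have := (hK i).2 (by rw [hi]; simpa using coNum_pow Nat.prime_two (fun h => hodd 2 h rfl) 1)
      rw [h, mem_bot] at this
      rw [this, orderOf_one] at hi
      norm_num at hi
    · obtain ⟨y, hy⟩ := exists_prime_orderOf_dvd_card' (G := E) r hrE
      exact (hK y).1 (h ▸ mem_top y) r hr' (hy ▸ dvd_rfl) hrπ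
  rcases hF with h5 | ⟨m, hm, hF⟩
  · have hcard : Nat.card G = 175560 := by
      rcases ree_cases hab hr with ⟨hJ, -⟩ | hR
      · exact hJ.2
      · exfalso
        rcases Cfsg.Agent.S0343.result hab (by omega) t ht ⟨e₀⟩ with ⟨m', -, hq, -⟩ | ⟨-, hJ⟩
        · rw [h5] at hq
          have : 3 ∣ 5 := hq ▸ dvd_pow_self 3 (by omega)
          norm_num at this
        · obtain ⟨m', hm', hR'⟩ := hR.2
          have h27 : 27 ≤ 3 ^ (2 * m' + 1) :=
            le_trans (by norm_num) (Nat.pow_le_pow_right (by norm_num : 0 < 3) (show 3 ≤ 2 * m' + 1 by omega))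
          have h1 : 27 ^ 3 * (27 ^ 3 + 1) * (27 - 1) ≤ Nat.card G := by
            rw [hR']; gcongr
          rw [hJ.2] at h1
          norm_num at h1
    have hC : Nat.card (centralizer ({t} : Set G)) = 120 := by
      rw [Nat.card_congr e₀.toEquiv, Nat.card_prod, Nat.card_eq_fintype_card (α := Multiplicative (ZMod 2))]
      have h := CfsgLib.Classical.card_psl2 (F := F)
      rw [h5, show Nat.gcd 2 (5 - 1) = 2 from rfl] at h
      simp
      omega
    have key : ∀ q : ℕ, q.Prime → q ∈ π → q ∣ Nat.card G → q = 7 ∨ q = 11 ∨ q = 19 := by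
      intro q hq hqπ hqd
      have hnd := hnoC q hq hqπ
      rw [hC] at hnd
      rw [hcard, show 175560 = 120 * (7 * (11 * 19)) by norm_num] at hqd
      have hqd' := (hq.dvd_mul.1 hqd).resolve_left hnd
      rcases hq.dvd_mul.1 hqd' with h | h
      · exact Or.inl ((Nat.prime_dvd_prime_iff_eq hq (by norm_num)).1 h)
      rcases hq.dvd_mul.1 h with h | h
      · exact Or.inr (Or.inl ((Nat.prime_dvd_prime_iff_eq hq (by norm_num)).1 h))
      · exact Or.inr (Or.inr ((Nat.prime_dvd_prime_iff_eq hq (by norm_num)).1 h))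
    have hp' := key p hp hpπ hd
    obtain ⟨r, hr', hrπ, hrG, hrd⟩ := exists_acting_prime hna hH hp hpπ hd (by
      rw [hcard]; rcases hp' with rfl | rfl | rfl <;> norm_num)
    rcases key r hr' hrπ hrG with rfl | rfl | rfl <;> rcases hp' with rfl | rfl | rfl <;> norm_num at hrd
  · have hR := isReeType_of_pow hab hr ht hm hF e₀
    obtain ⟨k, q, m', n, ⟨⟨T, hk, hq⟩⟩⟩ := ReeType.exists_setup_of_isReeType hR
    obtain ⟨g, hg⟩ := isConj_iff.1 (T.conj t ht)
    have hCT : Nat.card (centralizer ({T.t} : Set G)) = Nat.card (centralizer ({t} : Set G)) := by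
      obtain ⟨c⟩ := Rank.Factor.centralizer_equiv g T.t
      rw [hg] at c
      exact Nat.card_congr c.toEquiv
    haveI := Fintype.ofFinite G
    have hnd := hnoC p hp hpπ
    rw [← hCT, T.card_C] at hnd
    rcases T.prime_cases hp hp2 hd with h | h | h | h
    · exact hnd (((h ▸ hq ▸ dvd_pow_self 3 (by omega) : p ∣ q).mul_right n).mul_right (4 * m') |>.mul_left 2)
    · exact hnd (((h.mul_left q).mul_right (4 * m')).mul_left 2)
    · exact hnd ((((h.mul_left 4).mul_left (q * n))).mul_left 2)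
    · have hp3 : p ≠ 3 := by
        rintro rfl
        have h3 : 3 ∣ q := hq ▸ dvd_pow_self 3 (by omega)
        exact hnd (((h3.mul_right n).mul_right (4 * m')).mul_left 2)
      have hp5 : 5 ≤ p := by
        have := hp.two_le
        rcases Nat.lt_or_ge p 5 with h' | h'
        · interval_cases p <;> first | omega | exact absurd hp (by decide)
        · exact h'
      obtain ⟨S⟩ : Nonempty (Sylow p G) := inferInstance
      obtain ⟨s, b, -, -, -, hinv, -⟩ := (hA G q m' n T p hp hp5 h S).elts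
      obtain ⟨y, hy⟩ := exists_prime_orderOf_dvd_card' (G := (S : Subgroup G)) p
        (S.dvd_card_of_dvd_card hd)
      exact not_inverted hodd hH hp hpπ (x := (y : G)) (by rw [Subgroup.orderOf_coe]; exact hy)
        (hinv y (mem_centralizer_iff.2 fun z hz => ((hA G q m' n T p hp hp5 h S).comm z hz y y.2).eq))

theorem step (hC : Classified.{u}) (hA : ReeType.ScalarStmt.{u}) (hodd : ∀ p ∈ π, p ≠ 2) (G : Type u)
    [Group G] [Finite G] [IsSimpleGroup G] (hna : ¬ IsMulCommutative G) (hD : DClass G) (hH : Hom π G)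
    (hU : ∀ U : Subgroup G, U ≠ ⊤ → Closed π U) : Closed π G := by
  haveI : Fact (Nat.Prime 2) := ⟨Nat.prime_two⟩
  suffices h : ∀ p : ℕ, p.Prime → p ∈ π → ¬ p ∣ Nat.card G by
    exact ⟨⊤, fun x => ⟨fun _ p hp hd hπ => h p hp hπ (hd.trans (orderOf_dvd_natCard x)), fun _ => mem_top x⟩⟩
  intro p hp hpπ
  obtain ⟨S⟩ : Nonempty (Sylow 2 G) := inferInstance
  by_cases hS : ∀ a b : (S : Subgroup G), a * b = b * a
  · have hab := abTwo_of_sylow S (isMulCommutative_iff.2 hS)
    rcases hC G inferInstance hna hab with ⟨F, iF, iF', -, ⟨e⟩⟩ | hr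
    · exact not_dvd_of_psl hna hodd hH e hp hpπ
    · exact not_dvd_of_ree hA hna hodd hH hU hab hr hp hpπ
  · obtain ⟨n, hn, hS'⟩ := (hD S S.2).dihedral hS
    haveI : Group.IsPerfect G := by
      rw [Group.isPerfect_def]
      refine (inferInstance : (commutator G).Normal).eq_bot_or_eq_top.resolve_left fun h => hna ?_
      exact isMulCommutative_iff.2 fun a b => IsSimpleGroup.comm_iff_isSolvable.2
        ((Group.isSolvable_def G).2 ⟨1, by rw [derivedSeries_one]; exact h⟩) a b
    have hbot : Cfsg.oddCore G = ⊥ := by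
      refine (inferInstance : (Cfsg.oddCore G).Normal).eq_bot_or_eq_top.resolve_right fun h => hna ?_
      have h1 := GW.odd_oddCore G
      rw [h, card_top] at h1
      exact isMulCommutative_iff.2 fun a b =>
        IsSimpleGroup.comm_iff_isSolvable.2 (CfsgLib.FT.isSolvable_of_odd G h1) a b
    let b : G ≃* G ⧸ Cfsg.oddCore G :=
      (QuotientGroup.quotientBot (G := G)).symm.trans (QuotientGroup.quotientMulEquivOfEq hbot.symm)
    rcases Cfsg.Agent.S0483.result S n hn hS' with ⟨F, iF, iF', -, -, ⟨e⟩⟩ | he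
    · exact not_dvd_of_psl hna hodd hH (b.trans e) hp hpπ
    · obtain ⟨e⟩ := he
      exact not_dvd_of_alt_seven hna hodd hH (b.trans e) hp hpπ

/-- The statement `S4047`, given the classification. -/
theorem S4047_of_classified (hC : Classified.{u}) {G : Type u} [Group G] [Finite G]
    (π : Set ℕ) (hodd : ∀ p ∈ π, p.Prime ∧ p ≠ 2)
    (h2 : ∀ S : Sylow 2 G, IsMulCommutative S ∨ ∃ n : ℕ, Nonempty ((S : Subgroup G) ≃* DihedralGroup n))
    (hhom : (∀ H : Subgroup G, H ≠ ⊥ → (∀ p : ℕ, p.Prime → p ∣ Nat.card ↥H → p ∈ π) →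
        ∀ p : ℕ, p.Prime → p ∣ (Subgroup.centralizer (H : Set G)).relIndex (Subgroup.normalizer (H : Set G)) → p ∈ π)) :
    (∃ K : Subgroup G, ∀ x : G, x ∈ K ↔ ∀ p : ℕ, p.Prime → p ∣ orderOf x → p ∉ π) :=
  closed_of_simple (fun p hp => (hodd p hp).2) (step hC ReeType.scalarStmt fun p hp => (hodd p hp).2) G (dClass_of_sylow h2)
    (hom_of_relIndex hhom)

end CfsgLib.Walter.Consumers.Homogeneous
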